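import Mathlib

/-!
# Generic lemmas for limits of finite projective modules (helper6)

* `idem_injective_of_flat`: a surjection from the image of an idempotent matrix onto a flat module
  which is injective modulo a nil ideal is injective.
* `isNilpotent_of_entries_mem`: a matrix with entries in a nil ideal is nilpotent.
* `exists_idem_lift`: idempotent matrices lift along surjections with nil kernel.
* `exists_compat_seq`: elements of a tower of surjections extend to compatible sequences.
-/

set_option autoImplicit false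
set_option linter.unusedSectionVars false
set_option linter.unusedVariables false
set_option linter.unusedSimpArgs false
set_option linter.style.haveILetI false
set_option maxHeartbeats 400000
universe u v

namespace Groth.Agent.Lib.Helper6.Hens

open Matrix

section Nil

variable {R : Type u} [CommRing R] {K : Ideal R} (hK : ∀ k ∈ K, IsNilpotent k)

include hK in
lemma nil_le_jacobson : K ≤ Ideal.jacobson (⊥ : Ideal R) := by
  intro x hx
  rw [Ideal.mem_jacobson_bot]
  intro y
  exact ((Commute.all x y).isNilpotent_mul_right (hK x hx)).isUnit_add_one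

lemma pi_mem_smul_top {r : ℕ} (z : Fin r → R) (hz : ∀ i, z i ∈ K) :
    z ∈ K • (⊤ : Submodule R (Fin r → R)) := by
  have h : z = ∑ i, z i • (Pi.single i (1 : R) : Fin r → R) := by
    ext j
    simp [Finset.sum_apply, Pi.single_apply]
  rw [h]
  exact Submodule.sum_mem _ fun i _ => Submodule.smul_mem_smul (hz i) trivial

include hK in
/-- A surjection from the image of an idempotent matrix onto a flat module whose kernel lies in
`K`-coordinates (for a nil ideal `K`) is injective. -/
theorem idem_injective_of_flat {r : ℕ} (E : Matrix (Fin r) (Fin r) R) (hE : E * E = E)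
    {M : Type v} [AddCommGroup M] [Module R M] [Module.Flat R M] (g : (Fin r → R) →ₗ[R] M)
    (hsurj : ∀ y : M, ∃ v, g (E *ᵥ v) = y)
    (hker : ∀ v, g (E *ᵥ v) = 0 → ∀ i, (E *ᵥ v) i ∈ K) :
    ∀ v, g (E *ᵥ v) = 0 → E *ᵥ v = 0 := by
  intro v hv
  let G : (Fin r → R) →ₗ[R] M := g ∘ₗ Matrix.mulVecLin E
  have hGapp : ∀ w, G w = g (E *ᵥ w) := fun w => rfl
  have hG : Function.Surjective G := fun y => hsurj y
  have hEx : E *ᵥ (E *ᵥ v) = E *ᵥ v := by rw [Matrix.mulVec_mulVec, hE]
  have hGx : G (E *ᵥ v) = 0 := by rw [hGapp, hEx]; exact hv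
  obtain ⟨k, a, y, hya, hax⟩ := Module.Flat.exists_factorization_of_apply_eq_zero_of_free hGx
  obtain ⟨yt, hyt⟩ := Module.projective_lifting_property G y hG
  let θ : (Fin r → R) →ₗ[R] (Fin r → R) := LinearMap.id - yt ∘ₗ a
  have hθapp : ∀ w, θ w = w - yt (a w) := fun w => rfl
  have hGθ : ∀ w, G (θ w) = 0 := by
    intro w
    rw [hθapp, map_sub, ← LinearMap.comp_apply, hyt, hya, LinearMap.comp_apply, sub_self]
  have hθx : θ (E *ᵥ v) = E *ᵥ v := by rw [hθapp, hax, map_zero, sub_zero]
  let ν : Module.End R (Fin r → R) := Matrix.mulVecLin E ∘ₗ θ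
  have hνapp : ∀ w, ν w = E *ᵥ θ w := fun w => rfl
  have hνx : ν (E *ᵥ v) = E *ᵥ v := by rw [hνapp, hθx, hEx]
  have hrange : LinearMap.range ν ≤ K • (⊤ : Submodule R (Fin r → R)) := by
    rintro _ ⟨w, rfl⟩
    rw [hνapp]
    exact pi_mem_smul_top _ (hker (θ w) (by rw [← hGapp]; exact hGθ w))
  obtain ⟨q, hqm, -, hqc, hq0⟩ :=
    LinearMap.exists_monic_and_natDegree_eq_and_coeff_mem_pow_and_aeval_eq_zero R ν K hrange
  have hpow : ∀ k : ℕ, (ν ^ k) (E *ᵥ v) = E *ᵥ v := by
    intro k
    induction k with
    | zero => rfl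
    | succ k ih => rw [pow_succ, Module.End.mul_apply, hνx, ih]
  have h2 : (Polynomial.aeval ν q) (E *ᵥ v) = (q.eval 1) • (E *ᵥ v) := by
    rw [Polynomial.aeval_eq_sum_range, Polynomial.eval_eq_sum_range, LinearMap.sum_apply,
      Finset.sum_smul]
    refine Finset.sum_congr rfl fun k _ => ?_
    rw [LinearMap.smul_apply, hpow, one_pow, mul_one]
  rw [hq0, LinearMap.zero_apply] at h2
  have hmem : q.eval 1 - 1 ∈ K := by
    rw [Polynomial.eval_eq_sum_range, Finset.sum_range_succ, hqm.coeff_natDegree, one_pow,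
      mul_one, add_sub_cancel_right]
    refine Ideal.sum_mem _ fun k hk => ?_
    rw [one_pow, mul_one]
    have hk' : q.natDegree - k ≠ 0 := by
      have := Finset.mem_range.mp hk
      omega
    exact Ideal.pow_le_self hk' (hqc k)
  have hunit : IsUnit (q.eval 1) := by
    have := (hK _ hmem).isUnit_add_one
    rwa [sub_add_cancel] at this
  obtain ⟨uu, huu⟩ := hunit
  have h3 : E *ᵥ v = (↑uu⁻¹ : R) • ((uu : R) • (E *ᵥ v)) := by
    rw [smul_smul, Units.inv_mul, one_smul]
  rw [h3, huu, ← h2, smul_zero]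

include hK in
/-- A matrix with entries in a nil ideal is nilpotent. -/
lemma isNilpotent_of_entries_mem {r : ℕ} (X : Matrix (Fin r) (Fin r) R)
    (hX : ∀ i j, X i j ∈ K) : IsNilpotent X := by
  classical
  let S : Finset R := Finset.univ.image (fun ij : Fin r × Fin r => X ij.1 ij.2)
  let 𝔞 : Ideal R := Ideal.span (S : Set R)
  have hfg : 𝔞.FG := ⟨S, rfl⟩
  have hle : 𝔞 ≤ nilradical R := by
    rw [Ideal.span_le]
    intro z hz
    obtain ⟨ij, -, rfl⟩ := Finset.mem_image.mp (Finset.mem_coe.mp hz)
    exact mem_nilradical.mpr (hK _ (hX _ _))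
  obtain ⟨m, hm⟩ := hfg.isNilpotent_iff_le_nilradical.mpr hle
  have hmem : ∀ i j, X i j ∈ 𝔞 := fun i j =>
    Ideal.subset_span (Finset.mem_coe.mpr (Finset.mem_image.mpr ⟨(i, j), Finset.mem_univ _, rfl⟩))
  have hpow : ∀ n : ℕ, ∀ i j, (X ^ n) i j ∈ 𝔞 ^ n := by
    intro n
    induction n with
    | zero =>
      intro i j
      rw [pow_zero, Ideal.one_eq_top]
      trivial
    | succ n ih =>
      intro i j
      rw [pow_succ, pow_succ, Matrix.mul_apply]
      exact Ideal.sum_mem _ fun l _ => Ideal.mul_mem_mul (ih i l) (hmem l j)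
  refine ⟨m, ?_⟩
  ext i j
  have := hpow m i j
  rw [hm] at this
  exact this

end Nil

section IdemLift

variable {R S : Type u} [CommRing R] [CommRing S] (t : R →+* S)
  (ht : Function.Surjective t) (hnil : ∀ x : R, t x = 0 → IsNilpotent x)

include ht hnil in
/-- Idempotent matrices lift along a surjection with nil kernel. -/
theorem exists_idem_lift {r : ℕ} (E : Matrix (Fin r) (Fin r) S) (hE : E * E = E) :
    ∃ E' : Matrix (Fin r) (Fin r) R, E' * E' = E' ∧ E'.map t = E := by
  have hker : ∀ X ∈ RingHom.ker (t.mapMatrix (m := Fin r)), IsNilpotent X := by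
    intro X hX
    refine isNilpotent_of_entries_mem (K := RingHom.ker t)
      (fun k hk => hnil k (RingHom.mem_ker.mp hk)) X ?_
    intro i j
    rw [RingHom.mem_ker]
    have h0 : t.mapMatrix X = 0 := RingHom.mem_ker.mp hX
    have := congrArg (fun Y : Matrix (Fin r) (Fin r) S => Y i j) h0
    simpa [RingHom.mapMatrix_apply, Matrix.map_apply] using this
  have hrange : E ∈ (t.mapMatrix (m := Fin r)).range := by
    refine ⟨Matrix.of fun i j => (ht (E i j)).choose, ?_⟩
    ext i j
    simp only [RingHom.mapMatrix_apply, Matrix.map_apply, Matrix.of_apply]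
    exact (ht (E i j)).choose_spec
  obtain ⟨E', hE', hE'map⟩ :=
    exists_isIdempotentElem_eq_of_ker_isNilpotent (t.mapMatrix (m := Fin r)) hker E hrange hE
  exact ⟨E', hE', hE'map⟩

end IdemLift

section Tower

/-- In a tower of surjections, every element extends to a compatible sequence. -/
theorem exists_compat_seq : ∀ (n : ℕ) (X : ℕ → Type u) (f : ∀ n, X (n + 1) → X n)
    (hf : ∀ n, Function.Surjective (f n)) (a : X n),
    ∃ x : ∀ m, X m, (∀ m, f m (x (m + 1)) = x m) ∧ x n = a := by
  intro n
  induction n with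
  | zero =>
    intro X f hf a
    let x : ∀ m, X m := fun m => Nat.rec a (fun k xk => (hf k xk).choose) m
    refine ⟨x, fun m => ?_, rfl⟩
    exact (hf m (x m)).choose_spec
  | succ n ih =>
    intro X f hf a
    obtain ⟨x', hx', hx'n⟩ := ih (fun m => X (m + 1)) (fun m => f (m + 1)) (fun m => hf (m + 1)) a
    let x : ∀ m, X m := fun m => match m with
      | 0 => f 0 (x' 0)
      | (k + 1) => x' k
    refine ⟨x, fun m => ?_, hx'n⟩
    cases m with
    | zero => rfl
    | succ k => exact hx' k

end Tower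

end Groth.Agent.Lib.Helper6.Hens
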