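import Mathlib
import Groth.Agent.Lib.Helper6.Hens.ProjLimA

/-!
# Inverse limits of finite projective modules along surjections with nil kernels (helper6)
-/

set_option autoImplicit false
set_option linter.unusedSectionVars false
set_option linter.unusedVariables false
set_option linter.unusedSimpArgs false
set_option linter.style.haveILetI false
set_option maxHeartbeats 400000
universe u v

namespace Groth.Agent.Lib.Helper6.Hens

open Matrix

section Tower

variable {An : ℕ → Type u} [∀ n, CommRing (An n)] (t : ∀ n, An (n + 1) →+* An n)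
  (ht : ∀ n, Function.Surjective (t n))
  (hnil : ∀ n (x : An (n + 1)), t n x = 0 → IsNilpotent x)
  {M : ℕ → Type u} [∀ n, AddCommGroup (M n)] [∀ n, Module (An n) (M n)]
  (u : ∀ n, M (n + 1) →ₛₗ[t n] M n)
  (hfin : ∀ n, Module.Finite (An n) (M n)) (hflat : ∀ n, Module.Flat (An n) (M n))
  (hu : ∀ n, Function.Surjective (u n) ∧
    LinearMap.ker (u n) = RingHom.ker (t n) • (⊤ : Submodule (An (n + 1)) (M (n + 1))))
  {r : ℕ}

/-- One step of the lifting of idempotent matrices. -/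
noncomputable def Estep (n : ℕ) (E : {E : Matrix (Fin r) (Fin r) (An n) // E * E = E}) :
    {E' : Matrix (Fin r) (Fin r) (An (n + 1)) // E' * E' = E'} :=
  ⟨(exists_idem_lift (t n) (ht n) (hnil n) E.1 E.2).choose,
    (exists_idem_lift (t n) (ht n) (hnil n) E.1 E.2).choose_spec.1⟩

lemma Estep_map (n : ℕ) (E : {E : Matrix (Fin r) (Fin r) (An n) // E * E = E}) :
    (Estep t ht hnil n E).1.map (t n) = E.1 :=
  (exists_idem_lift (t n) (ht n) (hnil n) E.1 E.2).choose_spec.2

/-- The compatible sequence of idempotent matrices. -/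
noncomputable def Eseq (E0 : {E : Matrix (Fin r) (Fin r) (An 0) // E * E = E}) :
    ∀ n, {E : Matrix (Fin r) (Fin r) (An n) // E * E = E}
  | 0 => E0
  | (n + 1) => Estep t ht hnil n (Eseq E0 n)

lemma Eseq_map (E0 : {E : Matrix (Fin r) (Fin r) (An 0) // E * E = E}) (n : ℕ) :
    (Eseq t ht hnil E0 (n + 1)).1.map (t n) = (Eseq t ht hnil E0 n).1 :=
  Estep_map t ht hnil n _

lemma Eseq_mulVec (E0 : {E : Matrix (Fin r) (Fin r) (An 0) // E * E = E}) (n : ℕ)
    (v : Fin r → An (n + 1)) :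
    (fun i => t n (((Eseq t ht hnil E0 (n + 1)).1 *ᵥ v) i)) =
      (Eseq t ht hnil E0 n).1 *ᵥ (fun j => t n (v j)) := by
  funext i
  rw [RingHom.map_mulVec, Eseq_map]
  rfl

/-- One step of the lifting of the presentations. -/
noncomputable def gstep (n : ℕ) (g : (Fin r → An n) →ₗ[An n] M n) :
    (Fin r → An (n + 1)) →ₗ[An (n + 1)] M (n + 1) :=
  Fintype.linearCombination (An (n + 1))
    (fun j => ((hu n).1 (g (Pi.single j 1))).choose)

lemma gstep_compat (n : ℕ) (g : (Fin r → An n) →ₗ[An n] M n) (v : Fin r → An (n + 1)) :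
    u n (gstep t u hu n g v) = g (fun j => t n (v j)) := by
  have h : (fun j => t n (v j)) = ∑ j, t n (v j) • (Pi.single j (1 : An n) : Fin r → An n) := by
    ext i
    simp [Finset.sum_apply, Pi.single_apply]
  rw [gstep, Fintype.linearCombination_apply, map_sum, h, map_sum]
  refine Finset.sum_congr rfl fun j _ => ?_
  rw [map_smulₛₗ, map_smul, ((hu n).1 (g (Pi.single j 1))).choose_spec]

/-- The compatible sequence of presentations. -/
noncomputable def gseq (g0 : (Fin r → An 0) →ₗ[An 0] M 0) :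
    ∀ n, (Fin r → An n) →ₗ[An n] M n
  | 0 => g0
  | (n + 1) => gstep t u hu n (gseq g0 n)

lemma gseq_compat (g0 : (Fin r → An 0) →ₗ[An 0] M 0) (n : ℕ) (v : Fin r → An (n + 1)) :
    u n (gseq t u hu g0 (n + 1) v) = gseq t u hu g0 n (fun j => t n (v j)) :=
  gstep_compat t u hu n _ v

include hfin hflat in
/-- The presentations restricted to the images of the idempotents are bijective. -/
theorem tower_bij (E0 : {E : Matrix (Fin r) (Fin r) (An 0) // E * E = E})
    (g0 : (Fin r → An 0) →ₗ[An 0] M 0)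
    (h0s : ∀ y, ∃ v, g0 (E0.1 *ᵥ v) = y) (h0i : ∀ v, g0 (E0.1 *ᵥ v) = 0 → E0.1 *ᵥ v = 0) :
    ∀ n, (∀ y : M n, ∃ v, gseq t u hu g0 n ((Eseq t ht hnil E0 n).1 *ᵥ v) = y) ∧
      (∀ v, gseq t u hu g0 n ((Eseq t ht hnil E0 n).1 *ᵥ v) = 0 →
        (Eseq t ht hnil E0 n).1 *ᵥ v = 0) := by
  intro n
  induction n with
  | zero => exact ⟨h0s, h0i⟩
  | succ n ih =>
    obtain ⟨ihs, ihi⟩ := ih
    have hKnil : ∀ k ∈ RingHom.ker (t n), IsNilpotent k :=
      fun k hk => hnil n k (RingHom.mem_ker.mp hk)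
    have hcomp : ∀ v' : Fin r → An (n + 1),
        u n (gseq t u hu g0 (n + 1) ((Eseq t ht hnil E0 (n + 1)).1 *ᵥ v')) =
          gseq t u hu g0 n ((Eseq t ht hnil E0 n).1 *ᵥ (fun j => t n (v' j))) := by
      intro v'
      rw [gseq_compat, Eseq_mulVec]
    have hsurj : ∀ y : M (n + 1), ∃ v,
        gseq t u hu g0 (n + 1) ((Eseq t ht hnil E0 (n + 1)).1 *ᵥ v) = y := by
      haveI := hfin (n + 1)
      have hle : (⊤ : Submodule (An (n + 1)) (M (n + 1))) ≤
          LinearMap.range (gseq t u hu g0 (n + 1) ∘ₗ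
            Matrix.mulVecLin (Eseq t ht hnil E0 (n + 1)).1) := by
        refine Submodule.le_of_le_smul_of_le_jacobson_bot (I := RingHom.ker (t n))
          Module.Finite.fg_top (nil_le_jacobson hKnil) ?_
        intro y' _
        obtain ⟨v, hv⟩ := ihs (u n y')
        let v' : Fin r → An (n + 1) := fun j => (ht n (v j)).choose
        have hv' : (fun j => t n (v' j)) = v := funext fun j => (ht n (v j)).choose_spec
        have h1 : y' - gseq t u hu g0 (n + 1) ((Eseq t ht hnil E0 (n + 1)).1 *ᵥ v') ∈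
            LinearMap.ker (u n) := by
          rw [LinearMap.mem_ker, map_sub, hcomp, hv', hv, sub_self]
        rw [(hu n).2] at h1
        have h2 : y' = gseq t u hu g0 (n + 1) ((Eseq t ht hnil E0 (n + 1)).1 *ᵥ v') +
            (y' - gseq t u hu g0 (n + 1) ((Eseq t ht hnil E0 (n + 1)).1 *ᵥ v')) := by abel
        rw [h2]
        exact Submodule.add_mem_sup ⟨v', rfl⟩ h1
      intro y
      obtain ⟨v, hv⟩ := hle (Submodule.mem_top (x := y))
      exact ⟨v, hv⟩
    refine ⟨hsurj, ?_⟩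
    haveI := hflat (n + 1)
    refine idem_injective_of_flat hKnil _ (Eseq t ht hnil E0 (n + 1)).2 _ hsurj ?_
    intro v' hv' i
    rw [RingHom.mem_ker]
    have h3 := hcomp v'
    rw [hv', map_zero] at h3
    have h4 := ihi _ h3.symm
    have h5 := congrFun (Eseq_mulVec t ht hnil E0 n v') i
    rw [h4] at h5
    exact h5

end Tower

/-- The data of a limit ring `A = lim A_n`, a tower of modules `M_n` and a presentation of `M_0`
as the image of an idempotent matrix. -/
structure LimSetup (A : Type u) [CommRing A] (An : ℕ → Type u) [∀ n, CommRing (An n)]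
    (M : ℕ → Type u) [∀ n, AddCommGroup (M n)] [∀ n, Module (An n) (M n)] where
  t : ∀ n, An (n + 1) →+* An n
  π : ∀ n, A →+* An n
  ht : ∀ n, Function.Surjective (t n)
  hnil : ∀ n (x : An (n + 1)), t n x = 0 → IsNilpotent x
  hA1 : ∀ n, (t n).comp (π (n + 1)) = π n
  hA2 : ∀ a b : A, (∀ n, π n a = π n b) → a = b
  hA3 : ∀ x : ∀ n, An n, (∀ n, t n (x (n + 1)) = x n) → ∃ a : A, ∀ n, π n a = x n
  u : ∀ n, M (n + 1) →ₛₗ[t n] M n
  hfin : ∀ n, Module.Finite (An n) (M n)
  hflat : ∀ n, Module.Flat (An n) (M n)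
  hu : ∀ n, Function.Surjective (u n) ∧
    LinearMap.ker (u n) = RingHom.ker (t n) • (⊤ : Submodule (An (n + 1)) (M (n + 1)))
  r : ℕ
  E0 : {E : Matrix (Fin r) (Fin r) (An 0) // E * E = E}
  g0 : (Fin r → An 0) →ₗ[An 0] M 0
  h0s : ∀ y, ∃ v, g0 (E0.1 *ᵥ v) = y
  h0i : ∀ v, g0 (E0.1 *ᵥ v) = 0 → E0.1 *ᵥ v = 0

namespace LimSetup

variable {A : Type u} [CommRing A] {An : ℕ → Type u} [∀ n, CommRing (An n)]
  {M : ℕ → Type u} [∀ n, AddCommGroup (M n)] [∀ n, Module (An n) (M n)] (D : LimSetup A An M)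

/-- The idempotent at level `n`. -/
noncomputable def Es (n : ℕ) : Matrix (Fin D.r) (Fin D.r) (An n) :=
  (Eseq D.t D.ht D.hnil D.E0 n).1

/-- The presentation at level `n`. -/
noncomputable def gs (n : ℕ) : (Fin D.r → An n) →ₗ[An n] M n := gseq D.t D.u D.hu D.g0 n

lemma Es_idem (n : ℕ) : D.Es n * D.Es n = D.Es n := (Eseq D.t D.ht D.hnil D.E0 n).2

lemma Es_map (n : ℕ) : (D.Es (n + 1)).map (D.t n) = D.Es n := Eseq_map D.t D.ht D.hnil D.E0 n

lemma Es_entry (n : ℕ) (i j : Fin D.r) : D.t n (D.Es (n + 1) i j) = D.Es n i j := by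
  have := congrArg (fun Y : Matrix (Fin D.r) (Fin D.r) (An n) => Y i j) (D.Es_map n)
  simpa using this

lemma gs_compat (n : ℕ) (v : Fin D.r → An (n + 1)) :
    D.u n (D.gs (n + 1) v) = D.gs n (fun j => D.t n (v j)) :=
  gseq_compat D.t D.u D.hu D.g0 n v

lemma gs_surj (n : ℕ) (y : M n) : ∃ v, D.gs n (D.Es n *ᵥ v) = y :=
  (tower_bij D.t D.ht D.hnil D.u D.hfin D.hflat D.hu D.E0 D.g0 D.h0s D.h0i n).1 y

lemma gs_inj (n : ℕ) (v : Fin D.r → An n) (h : D.gs n (D.Es n *ᵥ v) = 0) : D.Es n *ᵥ v = 0 :=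
  (tower_bij D.t D.ht D.hnil D.u D.hfin D.hflat D.hu D.E0 D.g0 D.h0s D.h0i n).2 v h

lemma pi_compat (n : ℕ) (a : A) : D.t n (D.π (n + 1) a) = D.π n a :=
  RingHom.congr_fun (D.hA1 n) a

lemma pi_surjective (n : ℕ) : Function.Surjective (D.π n) := by
  intro a
  obtain ⟨x, hx, hxn⟩ := exists_compat_seq n An (fun m => D.t m) D.ht a
  obtain ⟨b, hb⟩ := D.hA3 x hx
  exact ⟨b, by rw [hb, hxn]⟩

lemma exists_eMat_entry (i j : Fin D.r) : ∃ a : A, ∀ n, D.π n a = D.Es n i j :=
  D.hA3 (fun n => D.Es n i j) (fun n => D.Es_entry n i j)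

/-- The limit idempotent matrix. -/
noncomputable def eMat : Matrix (Fin D.r) (Fin D.r) A :=
  Matrix.of fun i j => (D.exists_eMat_entry i j).choose

lemma eMat_entry (n : ℕ) (i j : Fin D.r) : D.π n (D.eMat i j) = D.Es n i j :=
  (D.exists_eMat_entry i j).choose_spec n

lemma eMat_map (n : ℕ) : D.eMat.map (D.π n) = D.Es n := by
  ext i j
  rw [Matrix.map_apply, eMat_entry]

lemma eMat_idem : D.eMat * D.eMat = D.eMat := by
  ext i j
  apply D.hA2
  intro n
  have h1 : D.π n ((D.eMat * D.eMat) i j) = ((D.eMat * D.eMat).map (D.π n)) i j := rfl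
  rw [h1, Matrix.map_mul, eMat_map, Es_idem, eMat_entry]

lemma pi_mulVec (n : ℕ) (w : Fin D.r → A) :
    (fun i => D.π n ((D.eMat *ᵥ w) i)) = D.Es n *ᵥ (fun j => D.π n (w j)) := by
  funext i
  rw [RingHom.map_mulVec, eMat_map]
  rfl

lemma vec_ext {w w' : Fin D.r → A} (h : ∀ n j, D.π n (w j) = D.π n (w' j)) : w = w' :=
  funext fun j => D.hA2 _ _ (fun n => h n j)

lemma vec_exists (v : ∀ n, Fin D.r → An n) (hv : ∀ n j, D.t n (v (n + 1) j) = v n j) :
    ∃ w : Fin D.r → A, ∀ n j, D.π n (w j) = v n j := by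
  have h : ∀ j, ∃ a : A, ∀ n, D.π n a = v n j := fun j =>
    D.hA3 (fun n => v n j) (fun n => hv n j)
  choose w hw using h
  exact ⟨w, fun n j => hw j n⟩

/-- The limit module, as the image of the limit idempotent. -/
noncomputable def PP : Submodule A (Fin D.r → A) := LinearMap.range (Matrix.mulVecLin D.eMat)

lemma mem_PP_iff {w : Fin D.r → A} : w ∈ D.PP ↔ D.eMat *ᵥ w = w := by
  constructor
  · rintro ⟨w0, rfl⟩
    rw [Matrix.mulVecLin_apply, Matrix.mulVec_mulVec, eMat_idem]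
  · intro h
    exact ⟨w, h⟩

lemma mulVec_mem_PP (w : Fin D.r → A) : D.eMat *ᵥ w ∈ D.PP := ⟨w, rfl⟩

instance finite_PP : Module.Finite A D.PP := by
  rw [PP]
  exact Module.Finite.range _

instance projective_PP : Module.Projective A D.PP := by
  refine Module.Projective.of_split (M := Fin D.r → A) D.PP.subtype
    (LinearMap.rangeRestrict (Matrix.mulVecLin D.eMat)) ?_
  apply LinearMap.ext
  intro w
  apply Subtype.ext
  change D.eMat *ᵥ (w : Fin D.r → A) = w
  exact D.mem_PP_iff.mp w.2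

/-- The reduction of a vector modulo level `n`. -/
def red (n : ℕ) (w : Fin D.r → A) : Fin D.r → An n := fun j => D.π n (w j)

lemma red_add (n : ℕ) (w w' : Fin D.r → A) : D.red n (w + w') = D.red n w + D.red n w' := by
  funext j
  simp [red]

lemma red_smul (n : ℕ) (a : A) (w : Fin D.r → A) : D.red n (a • w) = D.π n a • D.red n w := by
  funext j
  simp [red]

lemma red_compat (n : ℕ) (w : Fin D.r → A) :
    (fun j => D.t n (D.red (n + 1) w j)) = D.red n w := by
  funext j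
  exact D.pi_compat n (w j)

lemma red_mulVec (n : ℕ) (w : Fin D.r → A) : D.red n (D.eMat *ᵥ w) = D.Es n *ᵥ D.red n w :=
  D.pi_mulVec n w

lemma red_of_mem {w : Fin D.r → A} (hw : w ∈ D.PP) (n : ℕ) :
    D.Es n *ᵥ D.red n w = D.red n w := by
  rw [← red_mulVec, D.mem_PP_iff.mp hw]

/-- The projection `P → M_n`. -/
noncomputable def pp (n : ℕ) : D.PP →ₛₗ[D.π n] M n where
  toFun w := D.gs n (D.red n w.1)
  map_add' w w' := by
    rw [Submodule.coe_add, red_add, map_add]
  map_smul' a w := by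
    rw [Submodule.coe_smul, red_smul, map_smul]

lemma pp_apply (n : ℕ) (w : D.PP) : D.pp n w = D.gs n (D.red n w.1) := rfl

lemma pp_compat (n : ℕ) (w : D.PP) : D.u n (D.pp (n + 1) w) = D.pp n w := by
  rw [pp_apply, pp_apply, gs_compat, red_compat]

lemma pp_surjective (n : ℕ) : Function.Surjective (D.pp n) := by
  intro y
  obtain ⟨v, hv⟩ := D.gs_surj n y
  have hsurj : ∃ w : Fin D.r → A, D.red n w = v := by
    have h : ∀ j, ∃ a : A, D.π n a = v j := fun j => D.pi_surjective n (v j)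
    choose w hw using h
    exact ⟨w, funext hw⟩
  obtain ⟨w, hw⟩ := hsurj
  refine ⟨⟨D.eMat *ᵥ w, D.mulVec_mem_PP w⟩, ?_⟩
  rw [pp_apply, red_mulVec, hw, hv]

lemma red_eq_zero_of_pp_eq_zero (n : ℕ) (w : D.PP) (h : D.pp n w = 0) : D.red n w.1 = 0 := by
  rw [pp_apply, ← D.red_of_mem w.2 n] at h
  have := D.gs_inj n _ h
  rwa [D.red_of_mem w.2 n] at this

lemma pp_ker (n : ℕ) :
    LinearMap.ker (D.pp n) = RingHom.ker (D.π n) • (⊤ : Submodule A D.PP) := by
  apply le_antisymm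
  · intro w hw
    have h0 := D.red_eq_zero_of_pp_eq_zero n w (LinearMap.mem_ker.mp hw)
    have hj : ∀ j, (w.1 j) ∈ RingHom.ker (D.π n) := fun j => by
      rw [RingHom.mem_ker]
      exact congrFun h0 j
    have hsum : w = ∑ j, (w.1 j) • (⟨D.eMat *ᵥ (Pi.single j (1 : A) : Fin D.r → A),
        D.mulVec_mem_PP _⟩ : D.PP) := by
      apply Subtype.ext
      rw [AddSubmonoidClass.coe_finsetSum]
      have h1 : (w.1 : Fin D.r → A) = ∑ j, (w.1 j) • (Pi.single j (1 : A) : Fin D.r → A) := by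
        ext i
        simp [Finset.sum_apply, Pi.single_apply]
      conv_lhs => rw [← D.mem_PP_iff.mp w.2, h1, Matrix.mulVec_sum]
      refine Finset.sum_congr rfl fun j _ => ?_
      rw [Matrix.mulVec_smul]
      rfl
    rw [hsum]
    exact Submodule.sum_mem _ fun j _ => Submodule.smul_mem_smul (hj j) trivial
  · rw [Submodule.smul_le]
    intro a ha w _
    rw [LinearMap.mem_ker, map_smulₛₗ, RingHom.mem_ker.mp ha, zero_smul]

lemma pp_existsUnique (x : ∀ n, M n) (hx : ∀ n, D.u n (x (n + 1)) = x n) :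
    ∃! q : D.PP, ∀ n, D.pp n q = x n := by
  have hv : ∀ n, ∃ v : Fin D.r → An n, D.Es n *ᵥ v = v ∧ D.gs n v = x n := by
    intro n
    obtain ⟨v, hv⟩ := D.gs_surj n (x n)
    refine ⟨D.Es n *ᵥ v, ?_, hv⟩
    rw [Matrix.mulVec_mulVec, Es_idem]
  choose v hv1 hv2 using hv
  have hcompat : ∀ n j, D.t n (v (n + 1) j) = v n j := by
    intro n j
    have h1 : D.Es n *ᵥ (fun j => D.t n (v (n + 1) j)) = (fun j => D.t n (v (n + 1) j)) := by
      have := Eseq_mulVec D.t D.ht D.hnil D.E0 n (v (n + 1))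
      change (fun i => D.t n ((D.Es (n + 1) *ᵥ v (n + 1)) i)) = _ at this
      rw [hv1 (n + 1)] at this
      exact this.symm
    have h2 : D.gs n ((fun j => D.t n (v (n + 1) j)) - v n) = 0 := by
      rw [map_sub, ← gs_compat, hv2, hv2, hx, sub_self]
    have h3 : D.Es n *ᵥ ((fun j => D.t n (v (n + 1) j)) - v n) =
        (fun j => D.t n (v (n + 1) j)) - v n := by
      rw [Matrix.mulVec_sub, h1, hv1 n]
    have h4 := D.gs_inj n _ (by rw [h3]; exact h2)
    rw [h3] at h4
    have := congrFun h4 j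
    simpa [sub_eq_zero] using this
  obtain ⟨w, hw⟩ := D.vec_exists v hcompat
  have hwred : ∀ n, D.red n w = v n := fun n => funext fun j => hw n j
  have hwP : w ∈ D.PP := by
    rw [mem_PP_iff]
    apply D.vec_ext
    intro n j
    have := congrFun (D.red_mulVec n w) j
    change D.π n ((D.eMat *ᵥ w) j) = _ at this
    rw [this, hwred, hv1]
    exact (hw n j).symm
  refine ⟨⟨w, hwP⟩, fun n => by rw [pp_apply, hwred, hv2], ?_⟩
  intro q hq
  apply Subtype.ext
  apply D.vec_ext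
  intro n j
  have h5 : D.pp n (q - ⟨w, hwP⟩) = 0 := by
    rw [map_sub, hq, pp_apply, hwred, hv2, sub_self]
  have h6 := D.red_eq_zero_of_pp_eq_zero n _ h5
  have h7 := congrFun h6 j
  simp only [red, Submodule.coe_sub, Pi.sub_apply, map_sub, Pi.zero_apply, sub_eq_zero] at h7
  exact h7

end LimSetup

end Groth.Agent.Lib.Helper6.Hens
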