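import Mathlib
import Groth.Agent.Lib.Helper6.Hens.ProjLimB

set_option autoImplicit false
set_option linter.unusedSectionVars false
set_option linter.unusedVariables false
set_option linter.unusedSimpArgs false
set_option linter.style.haveILetI false
set_option maxHeartbeats 400000

universe u

open Matrix

namespace Groth.Agent.Lib.Helper6.Hens

/-- A finite projective module is the image of an idempotent matrix. -/
theorem exists_idem_presentation (R : Type u) [CommRing R] (N : Type u) [AddCommGroup N] [Module R N]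
    [Module.Finite R N] [Module.Projective R N] :
    ∃ (r : ℕ) (E : Matrix (Fin r) (Fin r) R) (g : (Fin r → R) →ₗ[R] N),
      E * E = E ∧ (∀ y, ∃ v, g (E *ᵥ v) = y) ∧ (∀ v, g (E *ᵥ v) = 0 → E *ᵥ v = 0) := by
  obtain ⟨r, g0, hg0⟩ := Module.Finite.exists_fin' R N
  obtain ⟨s0, hs0⟩ := Module.projective_lifting_property g0 LinearMap.id hg0
  have hs : ∀ y, g0 (s0 y) = y := fun y => by
    have := congrArg (fun f => f y) hs0
    simpa using this
  refine ⟨r, LinearMap.toMatrix' (s0 ∘ₗ g0), g0, ?_, ?_, ?_⟩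
  · rw [← LinearMap.toMatrix'_comp]
    congr 1
    apply LinearMap.ext
    intro v
    simp only [LinearMap.comp_apply, hs]
  · intro y
    refine ⟨s0 y, ?_⟩
    rw [LinearMap.toMatrix'_mulVec]
    simp only [LinearMap.comp_apply, hs]
  · intro v hv
    rw [LinearMap.toMatrix'_mulVec] at hv ⊢
    simp only [LinearMap.comp_apply, hs] at hv ⊢
    rw [hv, map_zero]

theorem limit_finite_projective (A : Type u) [CommRing A] (An : ℕ → Type u)
    [∀ n, CommRing (An n)] (t : ∀ n, An (n + 1) →+* An n) (π : ∀ n, A →+* An n)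
    (ht : ∀ n, Function.Surjective (t n)) (hnil : ∀ n (x : An (n + 1)), t n x = 0 → IsNilpotent x)
    (hA1 : ∀ n, (t n).comp (π (n + 1)) = π n)
    (hA2 : ∀ a b : A, (∀ n, π n a = π n b) → a = b)
    (hA3 : ∀ x : ∀ n, An n, (∀ n, t n (x (n + 1)) = x n) → ∃ a : A, ∀ n, π n a = x n)
    (M : ℕ → Type u) [∀ n, AddCommGroup (M n)] [∀ n, Module (An n) (M n)] (u : ∀ n, M (n + 1) →ₛₗ[t n] M n)
    [Module.Projective (An 0) (M 0)] (hfin : ∀ n, Module.Finite (An n) (M n)) (hflat : ∀ n, Module.Flat (An n) (M n))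
    (hu : ∀ n, Function.Surjective (u n) ∧ LinearMap.ker (u n) = RingHom.ker (t n) • (⊤ : Submodule (An (n + 1)) (M (n + 1)))) :
    ∃ (P : Type u) (_ : AddCommGroup P) (_ : Module A P) (p : ∀ n, P →ₛₗ[π n] M n),
      Module.Finite A P ∧ Module.Projective A P ∧ (∀ n (x : P), u n (p (n + 1) x) = p n x) ∧
      (∀ n, Function.Surjective (p n) ∧ LinearMap.ker (p n) = RingHom.ker (π n) • (⊤ : Submodule A P)) ∧
      (∀ x : (∀ n, M n), (∀ n, u n (x (n + 1)) = x n) → ∃! q : P, ∀ n, p n q = x n) := by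
  haveI := hfin 0
  obtain ⟨r, E, g, hE, hs, hi⟩ := exists_idem_presentation (An 0) (M 0)
  let D : LimSetup A An M :=
    { t := t, π := π, ht := ht, hnil := hnil, hA1 := hA1, hA2 := hA2, hA3 := hA3, u := u,
      hfin := hfin, hflat := hflat, hu := hu, r := r, E0 := ⟨E, hE⟩, g0 := g, h0s := hs, h0i := hi }
  exact ⟨↥D.PP, inferInstance, inferInstance, D.pp, D.finite_PP, D.projective_PP, D.pp_compat,
    fun n => ⟨D.pp_surjective n, D.pp_ker n⟩, D.pp_existsUnique⟩

end Groth.Agent.Lib.Helper6.Hens
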